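import Groth.Agent.L27.LamFin.Basic
import Groth.Agent.L27.PBC.ModPull
import Groth.Agent.L27.StalkBC.ConstReduce
import Groth.Agent.L28.CurveCd.Torsion
import Groth.Agent.L27.XV.ConstDevissage
import Groth.Agent.L27.PBC.Efface
import Groth.Prelude.Def_SixF2
import Mathlib.GroupTheory.FiniteAbelian.Basic

/-! # Finiteness for extensions by zero of constant sheaves of modules -/

set_option autoImplicit false
set_option linter.style.haveILetI false
set_option linter.unusedSectionVars false
set_option backward.isDefEq.respectTransparency.types false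

universe u

open CategoryTheory CategoryTheory.Limits AlgebraicGeometry Opposite Abelian

noncomputable section

namespace Groth.L27.LamFin

open Groth.L27.LimCoh Groth.L27.PBC

variable {Λ : Type} [CommRing Λ] {X U : Scheme.{u}} (f : U ⟶ X) [Etale f] [EtShriek.JCont f]

/-- Extension by zero of constant abelian sheaves. -/
abbrev phi : AddCommGrpCat.{u + 1} ⥤ EtCoh.Ab X :=
  constantSheaf U.smallEtaleTopology AddCommGrpCat.{u + 1} ⋙ EtShriek.extZero f

variable (Λ) in
/-- Extension by zero of constant sheaves of modules. -/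
abbrev psi : ModuleCat.{u + 1} (R.{u} Λ) ⥤ EtModW.Mod (R.{u} Λ) X :=
  constantSheaf U.smallEtaleTopology (ModuleCat.{u + 1} (R.{u} Λ)) ⋙ EtSix.extZeroMod (R.{u} Λ) f

instance preservesSheafification_forget₂ {C : Type (u + 1)} [Category.{u} C] (J : GrothendieckTopology C) :
    J.PreservesSheafification (forget₂ (ModuleCat.{u + 1} (R.{u} Λ)) AddCommGrpCat.{u + 1}) :=
  Sheaf.preservesSheafification_of_adjunction J (ModPull.coindAdj (R.{u} Λ))

variable (Λ) in
/-- Extension by zero commutes with forgetting the scalars. -/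
def thetaExt : EtModD.forgetToAb (R.{u} Λ) U ⋙ EtShriek.extZero f ≅
    EtSix.extZeroMod (R.{u} Λ) f ⋙ EtModD.forgetToAb (R.{u} Λ) X :=
  Adjunction.leftAdjointUniq ((ModPull.forgetAdj (R.{u} Λ) U).comp (EtShriek.extZeroAdj f))
    (((EtSix.extZeroModAdj (R.{u} Λ) f).comp (ModPull.forgetAdj (R.{u} Λ) X)).ofNatIsoRight (Iso.refl _))

variable (Λ) in
/-- Forgetting the scalars of extensions by zero of constant sheaves. -/
def theta : psi Λ f ⋙ EtModD.forgetToAb (R.{u} Λ) X ≅ forget₂ (ModuleCat.{u + 1} (R.{u} Λ)) AddCommGrpCat.{u + 1} ⋙ phi f :=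
  Functor.associator _ _ _ ≪≫ Functor.isoWhiskerLeft _ (thetaExt Λ f).symm ≪≫ (Functor.associator _ _ _).symm ≪≫
    Functor.isoWhiskerRight (constantCommuteCompose U.smallEtaleTopology _) _ ≪≫ Functor.associator _ _ _

/-- Scalar multiplication on a module. -/
def smulHom (M : ModuleCat.{u + 1} (R.{u} Λ)) (r : R.{u} Λ) : M ⟶ M := ModuleCat.ofHom (r • LinearMap.id)

theorem smulHom_comm {M N : ModuleCat.{u + 1} (R.{u} Λ)} (φ : M ⟶ N) (r : R.{u} Λ) :
    smulHom M r ≫ φ = φ ≫ smulHom N r :=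
  ModuleCat.hom_ext (LinearMap.ext fun x => φ.hom.map_smul r x)

theorem psi_map_smulHom (M : ModuleCat.{u + 1} (R.{u} Λ)) (r : R.{u} Λ) :
    (psi Λ f).map (smulHom M r) = smulEnd ((psi Λ f).obj M) r := by
  let adj := constantSheafAdj U.smallEtaleTopology (ModuleCat.{u + 1} (R.{u} Λ)) (EtCore.topIsTerminal U)
  let adj' := adj.comp (EtSix.extZeroModAdj (R.{u} Λ) f)
  apply (adj'.homEquiv _ _).injective
  rw [Adjunction.homEquiv_unit, Adjunction.homEquiv_unit]
  refine (adj'.unit.naturality (smulHom M r)).symm.trans ((smulHom_comm (adj'.unit.app M) r).trans ?_)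
  rfl

/-- The action on extensions by zero of constant sheaves. -/
def phiLam (M : ModuleCat.{u + 1} (R.{u} Λ)) : EtLam.Sheaf Λ X where
  carrier := (phi f).obj ((forget₂ (ModuleCat.{u + 1} (R.{u} Λ)) AddCommGrpCat.{u + 1}).obj M)
  act :=
    { toFun := fun r => ((theta Λ f).app M).conj ((lam ((psi Λ f).obj M)).act r)
      map_one' := (congrArg ((theta Λ f).app M).conj (map_one ((lam ((psi Λ f).obj M)).act))).trans
        ((theta Λ f).app M).conj_id
      map_mul' := fun r s => (congrArg ((theta Λ f).app M).conj (map_mul ((lam ((psi Λ f).obj M)).act) r s)).trans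
        (((theta Λ f).app M).conj_comp _ _)
      map_zero' := (congrArg ((theta Λ f).app M).conj (map_zero ((lam ((psi Λ f).obj M)).act))).trans
        ((congrArg (((theta Λ f).app M).inv ≫ ·) zero_comp).trans comp_zero)
      map_add' := fun r s => (congrArg ((theta Λ f).app M).conj (map_add ((lam ((psi Λ f).obj M)).act) r s)).trans
        ((congrArg (((theta Λ f).app M).inv ≫ ·) (Preadditive.add_comp _ _ _ _ _ _)).trans
          (Preadditive.comp_add _ _ _ _ _ _)) }

theorem phiLam_act (M : ModuleCat.{u + 1} (R.{u} Λ)) (r : Λ) :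
    (phiLam f M).act r =
      (phi f).map ((forget₂ (ModuleCat.{u + 1} (R.{u} Λ)) AddCommGrpCat.{u + 1}).map (smulHom M (ULift.up r))) := by
  show ((theta Λ f).app M).inv ≫ (EtModD.forgetToAb (R.{u} Λ) X).map (smulEnd ((psi Λ f).obj M) _) ≫
    ((theta Λ f).app M).hom = _
  rw [← psi_map_smulHom]
  refine (congrArg (_ ≫ ·) ((theta Λ f).hom.naturality (smulHom M (ULift.up r)))).trans ?_
  exact (theta Λ f).inv_hom_id_app_assoc M _

theorem phi_additive : (phi f).Additive := by
  haveI : (constantSheaf U.smallEtaleTopology AddCommGrpCat.{u + 1}).Additive :=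
    const_additive U
  haveI : (EtShriek.extZero f).Additive := (EtShriek.extZeroAdj f).left_adjoint_additive
  infer_instance

variable [CompactSpace X] [QuasiSeparatedSpace X]

/-- Every class comes from a finitely generated subgroup. -/
theorem exists_of_fg (A : AddCommGrpCat.{u + 1}) (q : ℕ) (ξ : EtCoh.H X ((phi f).obj A) q) :
    ∃ (s : Finset A) (η : EtCoh.H X ((phi f).obj ((StalkBC.subD A).obj s)) q),
      (EtCoh.HF X q).map ((phi f).map ((StalkBC.subC A).ι.app s)) η = ξ := by
  classical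
  haveI : PreservesColimitsOfSize.{u + 1, u + 1} (constantSheaf U.smallEtaleTopology AddCommGrpCat.{u + 1}) :=
    (EtCore.constAdj U).leftAdjoint_preservesColimits
  haveI : PreservesColimitsOfSize.{u + 1, u + 1} (EtShriek.extZero f) :=
    (EtShriek.extZeroAdj f).leftAdjoint_preservesColimits
  have hc : IsColimit ((phi f).mapCocone (StalkBC.subC A)) := isColimitOfPreserves (phi f) (StalkBC.isColimitSubC A)
  obtain ⟨s, η, hη⟩ := (L10.BigColim.ExtRep.commutes Colim.good
    (StalkBC.repTop X) (T := EtCoh.top X) ⟨‹_›, ‹_›⟩ q (StalkBC.subD A ⋙ phi f) _ hc).1 ξ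
  exact ⟨s, η, (EtSite.HF_map_apply _ _ _).trans hη⟩

/-- The map from a cyclic group given by an element killed by its order. -/
def psiHom {A : AddCommGrpCat.{u + 1}} (d : ℕ) (a : A) (ha : d • a = 0) :
    AddCommGrpCat.of (ULift.{u + 1} (ZMod d)) ⟶ A :=
  AddCommGrpCat.ofHom ((ZMod.lift d ⟨zmultiplesHom A a, by simpa [natCast_zsmul] using ha⟩).comp
    AddEquiv.ulift.toAddMonoidHom)

theorem psiHom_intCast {A : AddCommGrpCat.{u + 1}} (d : ℕ) (a : A) (ha : d • a = 0) (k : ℤ) :
    psiHom d a ha (ULift.up (k : ZMod d)) = k • a := by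
  show ZMod.lift d ⟨zmultiplesHom A a, by simpa [natCast_zsmul] using ha⟩ (k : ZMod d) = k • a
  rw [ZMod.lift_coe]
  rfl

theorem psiHom_add {A : AddCommGrpCat.{u + 1}} (d : ℕ) (a b : A) (ha : d • a = 0) (hb : d • b = 0)
    (hab : d • (a + b) = 0) : psiHom d (a + b) hab = psiHom d a ha + psiHom d b hb := by
  refine ConcreteCategory.hom_ext _ _ fun x => ?_
  obtain ⟨k, hk⟩ := ZMod.intCast_surjective x.down
  obtain rfl : x = ULift.up (k : ZMod d) := ULift.ext _ _ hk.symm
  show psiHom d (a + b) hab _ = psiHom d a ha _ + psiHom d b hb _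
  rw [psiHom_intCast, psiHom_intCast, psiHom_intCast]
  exact zsmul_add a b k

/-- Finite generation of the cohomology of extensions by zero of constant sheaves. -/
theorem finite_phiLam [IsNoetherianRing Λ] (M : ModuleCat.{u + 1} (R.{u} Λ)) [Module.Finite (R.{u} Λ) M] (n : ℕ)
    (hn : 0 < n) (hM : ∀ x : M, n • x = 0) (q : ℕ)
    (hab : ∀ d : ℕ, d ∣ n → Finite (EtCoh.H X ((phi f).obj (AddCommGrpCat.of (ULift.{u + 1} (ZMod d)))) q)) :
    Module.Finite Λ (EtCoh.H X (phiLam f M).carrier q) := by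
  classical
  haveI : IsNoetherianRing (R.{u} Λ) := isNoetherianRing_of_ringEquiv Λ (ULift.ringEquiv (R := Λ)).symm
  haveI : IsNoetherian (R.{u} Λ) M := isNoetherian_of_isNoetherianRing_of_finite _ _
  haveI := phi_additive f
  haveI := L28.CurveCd.HF_additive X q
  let A := (forget₂ (ModuleCat.{u + 1} (R.{u} Λ)) AddCommGrpCat.{u + 1}).obj M
  let Td : ℕ → Submodule (R.{u} Λ) M := fun d => LinearMap.ker ((d : ℕ) • (LinearMap.id : M →ₗ[R.{u} Λ] M))
  have hTd : ∀ {d : ℕ} {a : M}, a ∈ Td d ↔ d • (a : A) = 0 := Iff.rfl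
  choose gen hgen using fun d => (IsNoetherian.noetherian (Td d) : (Td d).FG)
  let L : ∀ (d : ℕ) (a : M), a ∈ Td d →
      EtCoh.H X ((phi f).obj (AddCommGrpCat.of (ULift.{u + 1} (ZMod d)))) q → EtCoh.H X (phiLam f M).carrier q :=
    fun d a ha y => (EtCoh.HF X q).map ((phi f).map (psiHom (A := A) d a ha)) y
  have hmem : ∀ (d : ℕ) (a : gen d), (a : M) ∈ Td d := fun d a => hgen d ▸ Submodule.subset_span a.2
  haveI : ∀ d : {d : ℕ // d ∈ n.divisors},
      Finite (EtCoh.H X ((phi f).obj (AddCommGrpCat.of (ULift.{u + 1} (ZMod d.1)))) q) := fun d =>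
    hab d.1 (Nat.dvd_of_mem_divisors d.2)
  let G : Set (EtCoh.H X (phiLam f M).carrier q) := Set.range fun p : (Σ d : {d : ℕ // d ∈ n.divisors},
      gen d.1 × EtCoh.H X ((phi f).obj (AddCommGrpCat.of (ULift.{u + 1} (ZMod d.1)))) q) =>
    L p.1.1 p.2.1 (hmem _ p.2.1) p.2.2
  have hG : G.Finite := Set.finite_range _
  have hL : ∀ (d : ℕ), d ∈ n.divisors → ∀ (a : M) (ha : a ∈ Td d)
      (y : EtCoh.H X ((phi f).obj (AddCommGrpCat.of (ULift.{u + 1} (ZMod d)))) q), L d a ha y ∈ Submodule.span Λ G := by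
    intro d hd a ha y
    have ha' := (hgen d).symm ▸ ha
    revert ha
    induction ha' using Submodule.span_induction with
    | mem b hb => exact fun ha => Submodule.subset_span ⟨⟨⟨d, hd⟩, ⟨b, hb⟩, y⟩, rfl⟩
    | zero =>
      intro ha
      have : psiHom (A := A) d (0 : A) (nsmul_zero d) = 0 := by
        have h := psiHom_add (A := A) d 0 0 (nsmul_zero d) (nsmul_zero d) (by rw [add_zero, nsmul_zero])
        simp only [add_zero] at h
        exact right_eq_add.1 h
      show (EtCoh.HF X q).map ((phi f).map (psiHom (A := A) d (0 : A) ha)) y ∈ _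
      rw [this, Functor.map_zero, Functor.map_zero]
      exact zero_mem _
    | add b c hb hc ihb ihc =>
      intro ha
      have hb' : b ∈ Td d := hgen d ▸ hb
      have hc' : c ∈ Td d := hgen d ▸ hc
      show (EtCoh.HF X q).map ((phi f).map (psiHom (A := A) d (b + c) ha)) y ∈ _
      rw [psiHom_add (A := A) d b c hb' hc' ha, Functor.map_add, Functor.map_add]
      exact add_mem (ihb hb') (ihc hc')
    | smul r b hb ihb =>
      intro ha
      have hb' : b ∈ Td d := hgen d ▸ hb
      have e : psiHom (A := A) d (r • b : M) ha = psiHom (A := A) d b hb' ≫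
          (forget₂ (ModuleCat.{u + 1} (R.{u} Λ)) AddCommGrpCat.{u + 1}).map (smulHom M r) := by
        refine ConcreteCategory.hom_ext _ _ fun x => ?_
        obtain ⟨k, hk⟩ := ZMod.intCast_surjective x.down
        obtain rfl : x = ULift.up (k : ZMod d) := ULift.ext _ _ hk.symm
        refine (psiHom_intCast (A := A) d (r • b : M) ha k).trans ?_
        refine Eq.trans ?_ (congrArg (fun v : A => (smulHom M r) (v : M)) (psiHom_intCast (A := A) d b hb' k)).symm
        exact (smul_comm r k b).symm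
      have e2 : L d (r • b) ha y = r.down • L d b hb' y := by
        rw [smul_eq]
        refine Eq.trans ?_ (congrArg (fun g => (EtCoh.HF X q).map g (L d b hb' y)) (phiLam_act f M r.down).symm)
        refine Eq.trans ?_ (HF_map_comp _ _ q y)
        exact congrArg (fun g => (EtCoh.HF X q).map g y)
          ((congrArg (phi f).map e).trans ((phi f).map_comp _ _))
      rw [e2]
      exact Submodule.smul_mem _ _ (ihb hb')
  refine ⟨⟨hG.toFinset, ?_⟩⟩
  rw [Set.Finite.coe_toFinset]
  refine eq_top_iff.2 fun ξ _ => ?_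
  obtain ⟨s, η, hη⟩ := exists_of_fg f A q ξ
  let B := (StalkBC.subD A).obj s
  haveI : AddGroup.FG B := (AddGroup.fg_iff_addSubgroup_fg _).2 ⟨s, rfl⟩
  haveI : Finite B := AddCommGroup.finite_of_fg_isAddTorsion _ fun x =>
    isOfFinAddOrder_iff_nsmul_eq_zero.2 ⟨n, hn, Subtype.ext (hM x.1)⟩
  obtain ⟨ι, hι, p, hp, e, ⟨φ⟩⟩ := AddCommGroup.equiv_directSum_zmod_of_finite B
  let d : ι → ℕ := fun k => p k ^ e k
  let inc : ∀ k, AddCommGrpCat.of (ULift.{u + 1} (ZMod (d k))) ⟶ B := fun k =>
    AddCommGrpCat.ofHom ((φ.symm.toAddMonoidHom.comp (DirectSum.of (fun k => ZMod (d k)) k)).comp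
      AddEquiv.ulift.toAddMonoidHom)
  let pr : ∀ k, B ⟶ AddCommGrpCat.of (ULift.{u + 1} (ZMod (d k))) := fun k =>
    AddCommGrpCat.ofHom (AddEquiv.ulift.symm.toAddMonoidHom.comp
      ((DFinsupp.evalAddMonoidHom (β := fun k => ZMod (d k)) k).comp φ.toAddMonoidHom))
  let i₀ : B ⟶ A := (StalkBC.subC A).ι.app s
  have hid : i₀ = ∑ k, pr k ≫ inc k ≫ i₀ := by
    refine ConcreteCategory.hom_ext _ _ fun x => ?_
    rw [PBC.hom_sum_apply]
    refine Eq.trans (congrArg i₀ ?_) (map_sum i₀.hom (fun k => inc k (pr k x)) Finset.univ)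
    refine φ.injective ?_
    rw [map_sum]
    refine Eq.trans ?_ (Finset.sum_congr rfl fun k _ => (φ.apply_symm_apply _).symm)
    exact (DirectSum.sum_univ_of (φ x)).symm
  have hsum : (EtCoh.HF X q).map ((phi f).map i₀) η = ∑ k, (EtCoh.HF X q).map ((phi f).map (pr k ≫ inc k ≫ i₀)) η := by
    conv_lhs => rw [hid]
    rw [Functor.map_sum, Functor.map_sum, PBC.hom_sum_apply]
  rw [← hη]
  show (EtCoh.HF X q).map ((phi f).map i₀) η ∈ _
  rw [hsum]
  refine Submodule.sum_mem _ fun k _ => ?_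
  let a : M := (i₀ (inc k (ULift.up 1)) : A)
  have hdk : d k ∣ n := by
    have h1 : (n : ZMod (d k)) = 0 := by
      refine DirectSum.of_injective (β := fun k => ZMod (d k)) k (φ.symm.injective (Subtype.ext ?_))
      have hh := hM a
      rw [show (n : ZMod (d k)) = n • (1 : ZMod (d k)) from (nsmul_one n).symm, map_nsmul, map_nsmul, map_zero, map_zero]
      exact hh
    rwa [ZMod.natCast_eq_zero_iff] at h1
  have ha : a ∈ Td (d k) := by
    rw [hTd]
    refine (map_nsmul (inc k ≫ i₀).hom (d k) (ULift.up 1)).symm.trans ?_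
    rw [show d k • (ULift.up 1 : ULift.{u + 1} (ZMod (d k))) = 0 from ULift.ext _ _ (by simp)]
    exact map_zero _
  have e3 : inc k ≫ i₀ = psiHom (A := A) (d k) a ha := by
    refine ConcreteCategory.hom_ext _ _ fun x => ?_
    obtain ⟨z, hz⟩ := ZMod.intCast_surjective x.down
    refine Eq.trans ?_ ((psiHom_intCast (A := A) (d k) a ha z).symm.trans (congrArg _ (ULift.ext (ULift.up (z : ZMod (d k))) x hz)))
    have hx : x = z • (ULift.up 1 : ULift.{u + 1} (ZMod (d k))) := ULift.ext _ _ (by simp [hz])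
    exact (congrArg (inc k ≫ i₀) hx).trans (map_zsmul (inc k ≫ i₀).hom z _)
  have e4 : (EtCoh.HF X q).map ((phi f).map (pr k ≫ inc k ≫ i₀)) η =
      L (d k) a ha ((EtCoh.HF X q).map ((phi f).map (pr k)) η) :=
    (congrArg (fun g => (EtCoh.HF X q).map g η)
      ((congrArg (fun g => (phi f).map (pr k ≫ g)) e3).trans ((phi f).map_comp _ _))).trans (HF_map_comp _ _ q η)
  rw [e4]
  exact hL (d k) (Nat.mem_divisors.2 ⟨hdk, hn.ne'⟩) a ha _

/-- Extensions by zero of constant sheaves of modules. -/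
theorem fin_psi [IsNoetherianRing Λ] (M : ModuleCat.{u + 1} (R.{u} Λ)) [Module.Finite (R.{u} Λ) M] (n : ℕ)
    (hn : 0 < n) (hM : ∀ x : M, n • x = 0) (q : ℕ)
    (hab : ∀ d : ℕ, d ∣ n → Finite (EtCoh.H X ((phi f).obj (AddCommGrpCat.of (ULift.{u + 1} (ZMod d)))) q)) :
    Fin ((psi Λ f).obj M) q := by
  refine finite_of_iso (L := phiLam f M) (L' := lam ((psi Λ f).obj M))
    (show (phiLam f M).carrier ≅ (lam ((psi Λ f).obj M)).carrier from ((theta Λ f).app M).symm) (fun r => ?_) q (finite_phiLam f M n hn hM q hab)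
  show (((theta Λ f).app M).inv ≫ _ ≫ ((theta Λ f).app M).hom) ≫ ((theta Λ f).app M).inv = _
  simp
  rfl

end Groth.L27.LamFin

end
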