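import Groth.Prelude.Def_EtLam
import Groth.Prelude.Def_EtMod2
import Groth.Prelude.Def_EtModD2
import Groth.Agent.L27.PBC.ModUnbdd
import Groth.Agent.L27.LimCoh.HMaps
import Mathlib.RingTheory.Finiteness.Basic
import Mathlib.RingTheory.Noetherian.Basic

/-! # Finiteness of cohomology of sheaves of modules -/

set_option autoImplicit false
set_option linter.style.haveILetI false
set_option linter.unusedSectionVars false
set_option backward.isDefEq.respectTransparency.types false

universe u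

open CategoryTheory CategoryTheory.Limits AlgebraicGeometry Opposite Abelian

noncomputable section

namespace Groth.L27.LamFin

open Groth.L27.LimCoh

variable {Λ : Type} [CommRing Λ] {X : Scheme.{u}}

/-- A morphism of carriers commuting with the actions. -/
def Equi (L L' : EtLam.Sheaf Λ X) (a : L.carrier ⟶ L'.carrier) : Prop := ∀ r, L.act r ≫ a = a ≫ L'.act r

variable {L L' : EtLam.Sheaf Λ X} {a : L.carrier ⟶ L'.carrier}

theorem smul_eq (L : EtLam.Sheaf Λ X) (q : ℕ) (r : Λ) (x : EtCoh.H X L.carrier q) :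
    r • x = (EtCoh.HF X q).map (L.act r) x :=
  (EtSite.HF_map_apply (L.act r) q x).symm.trans rfl

/-- The map on cohomology. -/
def Hlin (ha : Equi L L' a) (q : ℕ) : EtCoh.H X L.carrier q →ₗ[Λ] EtCoh.H X L'.carrier q where
  toFun x := (EtCoh.HF X q).map a x
  map_add' x y := map_add ((EtCoh.HF X q).map a).hom x y
  map_smul' r x := by
    simp only [RingHom.id_apply, smul_eq]
    exact (HF_map_comp (L.act r) a q x).symm.trans
      ((congrArg (fun f => (EtCoh.HF X q).map f x) (ha r)).trans (HF_map_comp a (L'.act r) q x))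

theorem finite_of_iso (e : L.carrier ≅ L'.carrier) (he : Equi L L' e.hom) (q : ℕ)
    (h : Module.Finite Λ (EtCoh.H X L.carrier q)) : Module.Finite Λ (EtCoh.H X L'.carrier q) :=
  Module.Finite.equiv (LinearEquiv.ofBijective (Hlin he q)
    (ConcreteCategory.bijective_of_isIso ((EtCoh.HF X q).map e.hom)))

/-- A short exact sequence of sheaves with actions. -/
theorem finite_right [IsNoetherianRing Λ] {L₁ L₂ L₃ : EtLam.Sheaf Λ X} (f : L₁.carrier ⟶ L₂.carrier)
    (g : L₂.carrier ⟶ L₃.carrier) (w : f ≫ g = 0) (hS : (ShortComplex.mk f g w).ShortExact) (hf : Equi L₁ L₂ f)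
    (hg : Equi L₂ L₃ g) (q : ℕ) (h₂ : Module.Finite Λ (EtCoh.H X L₂.carrier q))
    (h₁ : Module.Finite Λ (EtCoh.H X L₁.carrier (q + 1))) : Module.Finite Λ (EtCoh.H X L₃.carrier q) := by
  let δ : EtCoh.H X L₃.carrier q →ₗ[Λ] EtCoh.H X L₁.carrier (q + 1) :=
    { toFun := δH hS q
      map_add' := map_add (δH hS q)
      map_smul' := fun r x => by
        simp only [RingHom.id_apply, smul_eq]
        let φ : ShortComplex.mk f g w ⟶ ShortComplex.mk f g w :=
          { τ₁ := L₁.act r, τ₂ := L₂.act r, τ₃ := L₃.act r, comm₁₂ := hf r, comm₂₃ := hg r }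
        exact (map_δH hS hS φ q x).symm }
  have hfg : Function.Exact (Hlin hg q) δ := fun y => ⟨fun hy => ?_, ?_⟩
  · haveI := isNoetherian_of_isNoetherianRing_of_finite Λ (EtCoh.H X L₁.carrier (q + 1))
    haveI := isNoetherian_of_isNoetherianRing_of_finite Λ (EtCoh.H X L₂.carrier q)
    haveI := isNoetherian_of_range_eq_ker (Hlin hg q) δ hfg.linearMap_ker_eq.symm
    infer_instance
  · exact exists_map_of_δH_eq_zero hS q y hy
  · rintro ⟨z, rfl⟩
    exact δH_map_g hS q z

theorem finite_of_subsingleton (q : ℕ) (h : Subsingleton (EtCoh.H X L.carrier q)) :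
    Module.Finite Λ (EtCoh.H X L.carrier q) :=
  Module.Finite.of_finite

/-! ### Sheaves of modules as sheaves with action -/

/-- The coefficient ring one universe up. -/
abbrev R (Λ : Type) : Type (u + 1) := ULift.{u + 1} Λ

/-- Multiplication by a scalar. -/
def smulEnd (G : EtModW.Mod (R.{u} Λ) X) (r : R.{u} Λ) : G ⟶ G :=
  ⟨{ app := fun U => ModuleCat.ofHom (r • LinearMap.id)
     naturality := fun U V f => ModuleCat.hom_ext (LinearMap.ext fun x =>
       ((G.obj.map f).hom.map_smul r x).symm) }⟩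

theorem smulEnd_comm {G G' : EtModW.Mod (R.{u} Λ) X} (φ : G ⟶ G') (r : R.{u} Λ) :
    smulEnd G r ≫ φ = φ ≫ smulEnd G' r :=
  ObjectProperty.hom_ext _ (NatTrans.ext (funext fun U => ModuleCat.hom_ext (LinearMap.ext fun x =>
    (φ.hom.app U).hom.map_smul r x)))

theorem smulEnd_one (G : EtModW.Mod (R.{u} Λ) X) : smulEnd G 1 = 𝟙 G :=
  ObjectProperty.hom_ext _ (NatTrans.ext (funext fun U => ModuleCat.hom_ext (LinearMap.ext fun x => one_smul _ x)))

theorem smulEnd_mul (G : EtModW.Mod (R.{u} Λ) X) (r s : R.{u} Λ) : smulEnd G (r * s) = smulEnd G s ≫ smulEnd G r :=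
  ObjectProperty.hom_ext _ (NatTrans.ext (funext fun U => ModuleCat.hom_ext (LinearMap.ext fun x => mul_smul r s x)))

theorem smulEnd_zero (G : EtModW.Mod (R.{u} Λ) X) : smulEnd G 0 = 0 :=
  ObjectProperty.hom_ext _ (NatTrans.ext (funext fun U => ModuleCat.hom_ext (LinearMap.ext fun x => zero_smul _ x)))

theorem smulEnd_add (G : EtModW.Mod (R.{u} Λ) X) (r s : R.{u} Λ) : smulEnd G (r + s) = smulEnd G r + smulEnd G s :=
  ObjectProperty.hom_ext _ (NatTrans.ext (funext fun U => ModuleCat.hom_ext (LinearMap.ext fun x => add_smul r s x)))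

/-- The action underlying a sheaf of modules. -/
def lam (G : EtModW.Mod (R.{u} Λ) X) : EtLam.Sheaf Λ X where
  carrier := (EtModD.forgetToAb (R.{u} Λ) X).obj G
  act :=
    { toFun := fun r => (EtModD.forgetToAb (R.{u} Λ) X).map (smulEnd G (ULift.up r))
      map_one' := (congrArg (EtModD.forgetToAb (R.{u} Λ) X).map (smulEnd_one G)).trans (CategoryTheory.Functor.map_id _ _)
      map_mul' := fun r s => (congrArg (EtModD.forgetToAb (R.{u} Λ) X).map
        (smulEnd_mul G (ULift.up r) (ULift.up s))).trans (Functor.map_comp _ _ _)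
      map_zero' := (congrArg (EtModD.forgetToAb (R.{u} Λ) X).map (smulEnd_zero G)).trans (Functor.map_zero _ _ _)
      map_add' := fun r s => (congrArg (EtModD.forgetToAb (R.{u} Λ) X).map
        (smulEnd_add G (ULift.up r) (ULift.up s))).trans (Functor.map_add _) }

theorem equi_map {G G' : EtModW.Mod (R.{u} Λ) X} (φ : G ⟶ G') :
    Equi (lam G) (lam G') ((EtModD.forgetToAb (R.{u} Λ) X).map φ) := fun r => by
  show (EtModD.forgetToAb (R.{u} Λ) X).map (smulEnd G _) ≫ _ = _ ≫ (EtModD.forgetToAb (R.{u} Λ) X).map (smulEnd G' _)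
  rw [← Functor.map_comp, ← Functor.map_comp, smulEnd_comm]

/-- Finitely generated cohomology. -/
def Fin (G : EtModW.Mod (R.{u} Λ) X) (q : ℕ) : Prop := Module.Finite Λ (EtCoh.H X (lam G).carrier q)

theorem Fin.of_iso {G G' : EtModW.Mod (R.{u} Λ) X} (e : G ≅ G') {q : ℕ} (h : Fin G q) : Fin G' q :=
  finite_of_iso ((EtModD.forgetToAb (R.{u} Λ) X).mapIso e) (equi_map e.hom) q h

theorem Fin.right [IsNoetherianRing Λ] {S : ShortComplex (EtModW.Mod (R.{u} Λ) X)} (hS : S.ShortExact) {q : ℕ}
    (h₂ : Fin S.X₂ q) (h₁ : Fin S.X₁ (q + 1)) : Fin S.X₃ q := by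
  haveI : (EtModD.forgetToAb (R.{u} Λ) X).PreservesHomology := inferInstance
  exact finite_right (L₁ := lam S.X₁) (L₂ := lam S.X₂) (L₃ := lam S.X₃) _ _
    (S.map (EtModD.forgetToAb (R.{u} Λ) X)).zero (hS.map_of_exact (EtModD.forgetToAb (R.{u} Λ) X)) (equi_map S.f) (equi_map S.g) q h₂ h₁

end Groth.L27.LamFin

end
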