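import Groth.Agent.L27.LamFin.Lift

/-! # Sheaves with action as sheaves of modules -/

set_option autoImplicit false
set_option linter.style.haveILetI false
set_option linter.unusedSectionVars false
set_option backward.isDefEq.respectTransparency.types false

universe u

open CategoryTheory CategoryTheory.Limits AlgebraicGeometry Opposite

noncomputable section

namespace Groth.L27.LamFin

variable {Λ : Type} [CommRing Λ] {X : Scheme.{u}}

/-- The action on sections. -/
def evAct (L : EtLam.Sheaf Λ X) (U : X.Etaleᵒᵖ) : R.{u} Λ →+* AddMonoid.End (L.carrier.obj.obj U) where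
  toFun r := ((L.act r.down).hom.app U).hom
  map_one' := AddMonoidHom.ext fun x => congrArg (fun m => m.hom.app U x) (map_one L.act)
  map_mul' r s := AddMonoidHom.ext fun x => congrArg (fun m => m.hom.app U x) (map_mul L.act r.down s.down)
  map_zero' := AddMonoidHom.ext fun x => congrArg (fun m => m.hom.app U x) (map_zero L.act)
  map_add' r s := AddMonoidHom.ext fun x => congrArg (fun m => m.hom.app U x) (map_add L.act r.down s.down)

/-- The sections, with their module structure. -/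
def Sec (L : EtLam.Sheaf Λ X) (U : X.Etaleᵒᵖ) : Type (u + 1) := L.carrier.obj.obj U

instance (L : EtLam.Sheaf Λ X) (U : X.Etaleᵒᵖ) : AddCommGroup (Sec L U) :=
  inferInstanceAs (AddCommGroup (L.carrier.obj.obj U))

instance (L : EtLam.Sheaf Λ X) (U : X.Etaleᵒᵖ) : Module (R.{u} Λ) (Sec L U) :=
  Module.compHom (Sec L U) (show R.{u} Λ →+* AddMonoid.End (Sec L U) from evAct L U)

/-- The restriction maps are linear. -/
def secRes (L : EtLam.Sheaf Λ X) {U V : X.Etaleᵒᵖ} (f : U ⟶ V) : Sec L U →ₗ[R.{u} Λ] Sec L V where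
  toFun x := L.carrier.obj.map f x
  map_add' x y := map_add (L.carrier.obj.map f).hom x y
  map_smul' r x := (congrArg (fun m => m x) ((L.act r.down).hom.naturality f)).symm

/-- The presheaf of modules. -/
def preMod (L : EtLam.Sheaf Λ X) : X.Etaleᵒᵖ ⥤ ModuleCat.{u + 1} (R.{u} Λ) where
  obj U := ModuleCat.of (R.{u} Λ) (Sec L U)
  map f := ModuleCat.ofHom (secRes L f)
  map_id U := ModuleCat.hom_ext (LinearMap.ext fun x => congrArg (fun m => m x) (L.carrier.obj.map_id U))
  map_comp f g := ModuleCat.hom_ext (LinearMap.ext fun x => congrArg (fun m => m x) (L.carrier.obj.map_comp f g))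

/-- The sheaf of modules. -/
def toMod (L : EtLam.Sheaf Λ X) : EtModW.Mod (R.{u} Λ) X :=
  ⟨preMod L, (Presheaf.isSheaf_iff_isSheaf_forget _ _ (forget (ModuleCat.{u + 1} (R.{u} Λ)))).2
    ((Presheaf.isSheaf_of_iso_iff (P := L.carrier.obj ⋙ forget AddCommGrpCat.{u + 1})
      (P' := preMod L ⋙ forget (ModuleCat.{u + 1} (R.{u} Λ))) (NatIso.ofComponents fun _ => Iso.refl _)).1
      ((Presheaf.isSheaf_iff_isSheaf_forget _ _ (forget AddCommGrpCat.{u + 1})).1 L.carrier.property))⟩

/-- The underlying sheaf is the carrier. -/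
def carrierIso (L : EtLam.Sheaf Λ X) : (EtModD.forgetToAb (R.{u} Λ) X).obj (toMod L) ≅ L.carrier :=
  (fullyFaithfulSheafToPresheaf _ _).preimageIso (NatIso.ofComponents fun _ => Iso.refl _)

theorem equi_carrierIso (L : EtLam.Sheaf Λ X) : Equi (lam (toMod L)) L (carrierIso L).hom := fun r =>
  Sheaf.hom_ext (NatTrans.ext (funext fun U => ConcreteCategory.hom_ext _ _ fun x => rfl))

variable (Λ) in
/-- A module, one universe up. -/
abbrev upMod (M : Type) [AddCommGroup M] [Module Λ M] : ModuleCat.{u + 1} (R.{u} Λ) :=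
  ModuleCat.of (R.{u} Λ) (ULift.{u + 1} M)

theorem finite_upMod (M : Type) [AddCommGroup M] [Module Λ M] [Module.Finite Λ M] :
    Module.Finite (R.{u} Λ) (upMod.{u} Λ M) := by
  let σ : Λ →+* R.{u} Λ := (ULift.ringEquiv (R := Λ)).symm.toRingHom
  haveI : RingHomSurjective σ := ⟨(ULift.ringEquiv (R := Λ)).symm.surjective⟩
  let f : M →ₛₗ[σ] ULift.{u + 1} M :=
    { toFun := ULift.up, map_add' := fun _ _ => rfl, map_smul' := fun _ _ => rfl }
  exact Module.Finite.of_surjective f ULift.up_surjective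

theorem isFT_of_isFTLC {G : EtModW.Mod (R.{u} Λ) X} {L : EtLam.Sheaf Λ X}
    (a : (EtModD.forgetToAb (R.{u} Λ) X).obj G ≅ L.carrier) (ha : Equi (lam G) L a.hom) (h : EtLam.IsFTLC L) :
    EtModW.IsFTLocConst (R.{u} Λ) G := by
  obtain ⟨ι, U, hU, hM⟩ := h
  refine ⟨ι, U, hU, fun i => ?_⟩
  obtain ⟨M, _, _, _, e, he⟩ := hM i
  let J := X.smallEtaleTopology.over (U i)
  let P := X.smallEtaleTopology.overPullback AddCommGrpCat.{u + 1} (U i)
  let C := constantSheaf J (ModuleCat.{u + 1} (R.{u} Λ))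
  let cc := constantCommuteCompose J (forget₂ (ModuleCat.{u + 1} (R.{u} Λ)) AddCommGrpCat.{u + 1})
  let b : (forgetJ Λ J).obj (C.obj (upMod Λ M)) ≅ EtPBC.constOver (U i) M := cc.app (upMod Λ M)
  let a' : (forgetJ Λ J).obj (EtModW.restr (R.{u} Λ) G (U i)) ≅ EtCoh.restr L.carrier (U i) := P.mapIso a
  refine ⟨ULift.{u + 1} M, inferInstance, inferInstance, finite_upMod M, ⟨liftIso (a' ≪≫ e ≪≫ b.symm) fun r => ?_⟩⟩
  have h1 : (forgetJ Λ J).map (sEnd (EtModW.restr (R.{u} Λ) G (U i)) r) ≫ a'.hom = a'.hom ≫ P.map (L.act r.down) := by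
    have := congrArg P.map (ha r.down)
    rw [P.map_comp, P.map_comp] at this
    exact this
  have h2 : EtLam.constOverAct (U i) M r.down ≫ b.inv =
      b.inv ≫ (forgetJ Λ J).map (sEnd (C.obj (upMod Λ M)) r) := by
    rw [← constantSheaf_map_smulHom (CategoryTheory.Over.mkIdTerminal (X := U i))]
    exact cc.inv.naturality (smulHom (upMod Λ M) r)
  simp only [Iso.trans_hom, Iso.symm_hom, Category.assoc]
  rw [← Category.assoc, h1, Category.assoc]
  refine congrArg (a'.hom ≫ ·) ?_
  rw [← Category.assoc, he r.down, Category.assoc]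
  exact congrArg (e.hom ≫ ·) h2

/-- The pullback of a sheaf with action as a sheaf of modules. -/
theorem isFT_pull {Y : Scheme.{u}} (g : Y ⟶ X) [(EtCoh.pull g).Additive] (L : EtLam.Sheaf Λ X)
    (h : EtLam.IsFTLC (EtLam.pullback g L)) :
    EtModW.IsFTLocConst (R.{u} Λ) ((EtModW.pull (R.{u} Λ) g).obj (toMod L)) := by
  refine isFT_of_isFTLC (L := EtLam.pullback g L)
    (((PBC.ModPull.pullIso (R.{u} Λ) g).app (toMod L)).symm ≪≫ (EtCoh.pull g).mapIso (carrierIso L)) (fun r => ?_) h
  show (EtModD.forgetToAb (R.{u} Λ) Y).map (smulEnd _ _) ≫ _ = _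
  rw [← pull_map_smulEnd, Iso.trans_hom, Iso.symm_hom]
  refine (Category.assoc _ _ _).symm.trans ((congrArg (· ≫ _)
    ((PBC.ModPull.pullIso (R.{u} Λ) g).inv.naturality (smulEnd (toMod L) (ULift.up r)))).trans ?_)
  refine (Category.assoc _ _ _).trans (Eq.trans (congrArg (_ ≫ ·) ?_) (Category.assoc _ _ _).symm)
  exact (((EtCoh.pull g).map_comp _ _).symm.trans (congrArg (EtCoh.pull g).map (equi_carrierIso L r))).trans
    ((EtCoh.pull g).map_comp _ _)

theorem isConstructible_toMod {L : EtLam.Sheaf Λ X} (h : EtLam.IsConstructible L) :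
    EtModW.IsConstructible (R.{u} Λ) (toMod L) := fun U hU => by
  obtain ⟨n, T, g, h1, h2, h3, h4, h5⟩ := h U hU
  refine ⟨n, T, g, h1, h2, h3, h4, fun i => ?_⟩
  haveI : (EtCoh.pull (g i)).Additive := (EtCoh.pullPushAdj (g i)).left_adjoint_additive
  exact isFT_pull (g i) L (h5 i)

end Groth.L27.LamFin

end
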