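import Groth.Agent.L27.LamFin.Torsion
import Groth.Agent.L28.CurveCd.Main
import Groth.Agent.S0635
import Groth.Agent.S0636
import Groth.Prelude.Def_FinFr

/-! # Finite generation of the cohomology of constructible sheaves of modules on curves -/

set_option autoImplicit false
set_option linter.style.haveILetI false
set_option linter.unusedSectionVars false
set_option backward.isDefEq.respectTransparency.types false

universe u

open CategoryTheory CategoryTheory.Limits AlgebraicGeometry Opposite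

noncomputable section

namespace Groth.L27.LamFin

variable {Λ : Type} [CommRing Λ] [IsNoetherianRing Λ] {k : Type u} [Field k] [IsAlgClosed k] {X : Scheme.{u}}
  (f : X ⟶ Spec (CommRingCat.of k)) [LocallyOfFiniteType f]

theorem isTorsion_of_nsmul_id {F : EtCoh.Ab X} {n : ℕ} (hn : 0 < n) (h : n • 𝟙 F = 0) : EtCoh.IsTorsion F :=
  fun U s x => ⟨U, 𝟙 U, ⟨x, rfl⟩, isOfFinAddOrder_iff_nsmul_eq_zero.2
    ⟨n, hn, L28.ExtShriek.killed_of_nsmul_id h U _⟩⟩

theorem isUnit_natCast_iff (n : ℕ) : IsUnit (n : Γ(Spec (CommRingCat.of k), ⊤)) ↔ (n : k) ≠ 0 := by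
  constructor
  · intro hu
    have := hu.map (Scheme.ΓSpecIso (CommRingCat.of k)).hom.hom
    rw [map_natCast] at this
    exact this.ne_zero
  · intro hn
    have := (isUnit_iff_ne_zero.2 hn).map (Scheme.ΓSpecIso (CommRingCat.of k)).inv.hom
    rwa [map_natCast] at this

/-- Sheaves killed by an integer invertible in the base field. -/
theorem fin_prime_to [IsSeparated f] [QuasiCompact f] (hdim : topologicalKrullDim X ≤ 1) (n : ℕ) (hn : (n : k) ≠ 0)
    (G : EtModW.Mod (R.{u} Λ) X) (hG : EtModW.IsConstructible (R.{u} Λ) G) (hkill : n • 𝟙 G = 0) (q : ℕ) :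
    Fin G q := by
  haveI : IsLocallyNoetherian X := LocallyOfFiniteType.isLocallyNoetherian f
  haveI : CompactSpace ↥X := QuasiCompact.compactSpace_of_compactSpace f
  haveI : AlgebraicGeometry.IsNoetherian X := {}
  have hn0 : 0 < n := Nat.pos_of_ne_zero fun h => hn (by rw [h, Nat.cast_zero])
  refine fin_of_killed n hn0 3 (fun F hF r hr => ?_) (fun F hF h r => ?_) G hG hkill q
  · obtain ⟨r, rfl⟩ : ∃ i, r = i + 3 := ⟨r - 3, by omega⟩
    exact L28.CurveCd.subsingleton_H f hdim F (isTorsion_of_nsmul_id hn0 hF) r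
  · exact Groth.Agent.S0635.result k X f hdim F hF (fun U s x => ⟨U, 𝟙 U, n, ⟨x, rfl⟩, (isUnit_natCast_iff n).2 hn,
      L28.ExtShriek.killed_of_nsmul_id h U _⟩) r

/-- Sheaves killed by an integer on a proper curve. -/
theorem fin_proper [IsProper f] (hdim : topologicalKrullDim X ≤ 1) (n : ℕ) (hn : 0 < n)
    (G : EtModW.Mod (R.{u} Λ) X) (hG : EtModW.IsConstructible (R.{u} Λ) G) (hkill : n • 𝟙 G = 0) (q : ℕ) :
    Fin G q := by
  haveI : IsLocallyNoetherian X := LocallyOfFiniteType.isLocallyNoetherian f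
  haveI : CompactSpace ↥X := QuasiCompact.compactSpace_of_compactSpace f
  haveI : AlgebraicGeometry.IsNoetherian X := {}
  refine fin_of_killed n hn 3 (fun F hF r hr => ?_) (fun F hF h r => ?_) G hG hkill q
  · obtain ⟨r, rfl⟩ : ∃ i, r = i + 3 := ⟨r - 3, by omega⟩
    exact L28.CurveCd.subsingleton_H f hdim F (isTorsion_of_nsmul_id hn hF) r
  · exact Groth.Agent.S0636.result k X f hdim F hF (isTorsion_of_nsmul_id hn h) r

variable (k) in
/-- Integers invertible in `k`. -/
def invNat : Submonoid ℕ where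
  carrier := {n | (n : k) ≠ 0}
  mul_mem' ha hb := by
    show ((_ * _ : ℕ) : k) ≠ 0
    rw [Nat.cast_mul]
    exact mul_ne_zero ha hb
  one_mem' := by simp

/-- Positive integers. -/
def posNat : Submonoid ℕ where
  carrier := {n | 0 < n}
  mul_mem' := Nat.mul_pos
  one_mem' := Nat.one_pos

theorem exists_kill_pos [CompactSpace X] [QuasiSeparatedSpace X] (L : EtLam.Sheaf Λ X) (hL : EtLam.IsConstructible L)
    (hLt : EtCoh.IsTorsion L.carrier) : ∃ n : ℕ, 0 < n ∧ n • 𝟙 (toMod L) = 0 :=
  exists_nsmul_id_eq_zero posNat (isConstructible_toMod hL) fun U s x => by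
    obtain ⟨V, g, hv, hfin⟩ := hLt U s x
    obtain ⟨n, hn, h0⟩ := isOfFinAddOrder_iff_nsmul_eq_zero.1 hfin
    exact ⟨V, g, n, hv, hn, h0⟩

theorem exists_kill_inv [CompactSpace X] [QuasiSeparatedSpace X] (L : EtLam.Sheaf Λ X) (hL : EtLam.IsConstructible L)
    (hLp : EtPBC.IsTorsionInvertibleOn (Spec (CommRingCat.of k)) L.carrier) :
    ∃ n : ℕ, (n : k) ≠ 0 ∧ n • 𝟙 (toMod L) = 0 :=
  exists_nsmul_id_eq_zero (invNat k) (isConstructible_toMod hL) fun U s x => by
    obtain ⟨V, g, n, hv, hu, h0⟩ := hLp U s x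
    exact ⟨V, g, n, hv, (isUnit_natCast_iff n).1 hu, h0⟩

theorem finite_H_of_fin (L : EtLam.Sheaf Λ X) (q : ℕ) (h : Fin (toMod L) q) :
    Module.Finite Λ (EtCoh.H X L.carrier q) :=
  finite_of_iso (carrierIso L) (equi_carrierIso L) q h

attribute [local instance] Groth.L27.ExtZero.jCont

/-- Extension by zero of a sheaf with action. -/
theorem finite_H_extZeroLam {P : Scheme.{u}} (j : X ⟶ P) [Etale j] [EtShriek.JCont j] (L : EtLam.Sheaf Λ X) (q : ℕ)
    (h : Fin ((EtSix.extZeroMod (R.{u} Λ) j).obj (toMod L)) q) :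
    Module.Finite Λ (EtCoh.H P (FinFr.extZeroLam j L).carrier q) := by
  refine finite_of_iso (L' := FinFr.extZeroLam j L)
    (((thetaExt Λ j).app (toMod L)).symm ≪≫ (EtShriek.extZero j).mapIso (carrierIso L)) (fun r => ?_) q h
  show (EtModD.forgetToAb (R.{u} Λ) P).map (smulEnd _ _) ≫ _ = _ ≫ (EtShriek.extZero j).map (L.act r)
  rw [← extZero_map_smulEnd, Iso.trans_hom, Iso.symm_hom]
  refine (Category.assoc _ _ _).symm.trans ((congrArg (· ≫ _)
    ((thetaExt Λ j).inv.naturality (smulEnd (toMod L) (ULift.up r)))).trans ?_)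
  refine (Category.assoc _ _ _).trans (Eq.trans (congrArg (_ ≫ ·) ?_) (Category.assoc _ _ _).symm)
  exact (((EtShriek.extZero j).map_comp _ _).symm.trans
    (congrArg (EtShriek.extZero j).map (equi_carrierIso L r))).trans ((EtShriek.extZero j).map_comp _ _)

end Groth.L27.LamFin

end
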