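import Groth.Agent.L27.LamFin.Main

/-! # Isomorphisms of sheaves of modules from equivariant isomorphisms of sheaves of groups -/

set_option autoImplicit false
set_option linter.style.haveILetI false
set_option linter.unusedSectionVars false
set_option backward.isDefEq.respectTransparency.types false

universe u

open CategoryTheory CategoryTheory.Limits AlgebraicGeometry Opposite

noncomputable section

namespace Groth.L27.LamFin

variable {Λ : Type} [CommRing Λ] {C : Type (u + 1)} [Category.{u} C] {J : GrothendieckTopology C}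

/-- Multiplication by a scalar. -/
def sEnd (F : Sheaf J (ModuleCat.{u + 1} (R.{u} Λ))) (r : R.{u} Λ) : F ⟶ F :=
  ⟨{ app := fun U => ModuleCat.ofHom (r • LinearMap.id)
     naturality := fun U V f => ModuleCat.hom_ext (LinearMap.ext fun x =>
       ((F.obj.map f).hom.map_smul r x).symm) }⟩

theorem sEnd_comm {F G : Sheaf J (ModuleCat.{u + 1} (R.{u} Λ))} (φ : F ⟶ G) (r : R.{u} Λ) :
    sEnd F r ≫ φ = φ ≫ sEnd G r :=
  ObjectProperty.hom_ext _ (NatTrans.ext (funext fun U => ModuleCat.hom_ext (LinearMap.ext fun x =>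
    (φ.hom.app U).hom.map_smul r x)))

variable (J Λ) in
/-- Forgetting the scalars. -/
abbrev forgetJ : Sheaf J (ModuleCat.{u + 1} (R.{u} Λ)) ⥤ Sheaf J AddCommGrpCat.{u + 1} :=
  sheafCompose J (forget₂ (ModuleCat.{u + 1} (R.{u} Λ)) AddCommGrpCat.{u + 1})

/-- An equivariant morphism of the underlying sheaves of groups is linear. -/
def liftHom {F G : Sheaf J (ModuleCat.{u + 1} (R.{u} Λ))} (a : (forgetJ Λ J).obj F ⟶ (forgetJ Λ J).obj G)
    (ha : ∀ r, (forgetJ Λ J).map (sEnd F r) ≫ a = a ≫ (forgetJ Λ J).map (sEnd G r)) : F ⟶ G :=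
  ⟨{ app := fun U => ModuleCat.ofHom
      { toFun := fun x => a.hom.app U x
        map_add' := fun x y => map_add (a.hom.app U).hom x y
        map_smul' := fun r x => congrArg (fun m => m.hom.app U x) (ha r) }
     naturality := fun U V f => ModuleCat.hom_ext (LinearMap.ext fun x =>
       congrArg (fun m => m x) (a.hom.naturality f)) }⟩

/-- An equivariant isomorphism of the underlying sheaves of groups is linear. -/
def liftIso {F G : Sheaf J (ModuleCat.{u + 1} (R.{u} Λ))} (a : (forgetJ Λ J).obj F ≅ (forgetJ Λ J).obj G)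
    (ha : ∀ r, (forgetJ Λ J).map (sEnd F r) ≫ a.hom = a.hom ≫ (forgetJ Λ J).map (sEnd G r)) : F ≅ G where
  hom := liftHom a.hom ha
  inv := liftHom a.inv fun r => by
    rw [← cancel_epi a.hom, ← Category.assoc, ← ha r, Category.assoc, a.hom_inv_id, a.hom_inv_id_assoc,
      Category.comp_id]
  hom_inv_id := Sheaf.hom_ext (NatTrans.ext (funext fun U => ModuleCat.hom_ext (LinearMap.ext fun x =>
    congrArg (fun m => m.hom.app U x) a.hom_inv_id)))
  inv_hom_id := Sheaf.hom_ext (NatTrans.ext (funext fun U => ModuleCat.hom_ext (LinearMap.ext fun x =>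
    congrArg (fun m => m.hom.app U x) a.inv_hom_id)))

theorem constantSheaf_map_smulHom {T : C} (hT : IsTerminal T) [HasWeakSheafify J (ModuleCat.{u + 1} (R.{u} Λ))]
    (M : ModuleCat.{u + 1} (R.{u} Λ)) (r : R.{u} Λ) :
    (constantSheaf J (ModuleCat.{u + 1} (R.{u} Λ))).map (smulHom M r) =
      sEnd ((constantSheaf J (ModuleCat.{u + 1} (R.{u} Λ))).obj M) r := by
  let adj := constantSheafAdj J (ModuleCat.{u + 1} (R.{u} Λ)) hT
  apply (adj.homEquiv _ _).injective
  rw [Adjunction.homEquiv_unit, Adjunction.homEquiv_unit]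
  exact (adj.unit.naturality (smulHom M r)).symm.trans ((smulHom_comm (adj.unit.app M) r).trans rfl)

theorem pull_map_smulEnd {X Y : Scheme.{u}} (g : X ⟶ Y) (G : EtModW.Mod (R.{u} Λ) Y) (r : R.{u} Λ) :
    (EtModW.pull (R.{u} Λ) g).map (smulEnd G r) = smulEnd ((EtModW.pull (R.{u} Λ) g).obj G) r := by
  let adj := EtSix.pullPushModAdj (R.{u} Λ) g
  apply (adj.homEquiv _ _).injective
  rw [Adjunction.homEquiv_unit, Adjunction.homEquiv_unit]
  exact (adj.unit.naturality (smulEnd G r)).symm.trans ((smulEnd_comm (adj.unit.app G) r).trans rfl)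

theorem extZero_map_smulEnd {X U : Scheme.{u}} (f : U ⟶ X) [Etale f] [EtShriek.JCont f]
    (G : EtModW.Mod (R.{u} Λ) U) (r : R.{u} Λ) :
    (EtSix.extZeroMod (R.{u} Λ) f).map (smulEnd G r) = smulEnd ((EtSix.extZeroMod (R.{u} Λ) f).obj G) r := by
  let adj := EtSix.extZeroModAdj (R.{u} Λ) f
  apply (adj.homEquiv _ _).injective
  rw [Adjunction.homEquiv_unit, Adjunction.homEquiv_unit]
  exact (adj.unit.naturality (smulEnd G r)).symm.trans ((smulEnd_comm (adj.unit.app G) r).trans rfl)

end Groth.L27.LamFin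

end
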