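import Groth.Agent.L27.LamFin.Atom
import Groth.Agent.L28.ExtShriekMod.Constr
import Groth.Agent.L28.ExtShriek.Main
import Groth.Agent.L28.ExtShriek.Killed

/-! # Finite generation of the cohomology of constructible sheaves of modules killed by an integer -/

set_option autoImplicit false
set_option linter.style.haveILetI false
set_option linter.unusedSectionVars false
set_option backward.isDefEq.respectTransparency.types false

universe u

open CategoryTheory CategoryTheory.Limits AlgebraicGeometry Opposite Abelian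

noncomputable section

namespace Groth.L27.LamFin

open Groth.L27.LimCoh Groth.L28.ExtShriekMod

attribute [local instance] Abelian.hasFiniteBiproducts Groth.L27.ExtZero.jCont

variable {Λ : Type} [CommRing Λ] {X : Scheme.{u}}

theorem nsmul_section_eq_zero {G : EtModW.Mod (R.{u} Λ) X} {n : ℕ} (h : n • 𝟙 G = 0) (W : X.Etaleᵒᵖ)
    (x : G.obj.obj W) : n • x = 0 := by
  let ev : (G ⟶ G) →+ G.obj.obj W :=
    { toFun := fun m => m.hom.app W x, map_zero' := rfl, map_add' := fun _ _ => rfl }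
  exact (map_nsmul ev n (𝟙 G)).symm.trans ((congrArg ev h).trans ev.map_zero)

theorem nsmul_id_kernel {F G : EtModW.Mod (R.{u} Λ) X} (p : F ⟶ G) {n : ℕ} (h : n • 𝟙 F = 0) :
    n • 𝟙 (kernel p) = 0 := by
  rw [← cancel_mono (kernel.ι p), zero_comp, Preadditive.nsmul_comp, Category.id_comp]
  calc n • kernel.ι p = n • (kernel.ι p ≫ 𝟙 F) := by rw [Category.comp_id]
    _ = kernel.ι p ≫ (n • 𝟙 F) := (Preadditive.comp_nsmul _ _ _).symm
    _ = 0 := by rw [h, comp_zero]

theorem fin_biproduct {ι : Type} [Fintype ι] (F : ι → EtModW.Mod (R.{u} Λ) X) (q : ℕ) (h : ∀ i, Fin (F i) q) :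
    Fin (⨁ F) q := by
  haveI : ∀ i, Module.Finite Λ (EtCoh.H X (lam (F i)).carrier q) := h
  haveI := Groth.L28.CurveCd.HF_additive X q
  let T : (∀ i, EtCoh.H X (lam (F i)).carrier q) →ₗ[Λ] EtCoh.H X (lam (⨁ F)).carrier q :=
    ∑ i, (Hlin (equi_map (biproduct.ι F i)) q).comp (LinearMap.proj i)
  refine Module.Finite.of_surjective T fun x => ⟨fun i => Hlin (equi_map (biproduct.π F i)) q x, ?_⟩
  have e : (EtCoh.HF X q).map ((EtModD.forgetToAb (R.{u} Λ) X).map (∑ i, biproduct.π F i ≫ biproduct.ι F i)) x = x := by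
    rw [biproduct.total, CategoryTheory.Functor.map_id, CategoryTheory.Functor.map_id]
    rfl
  rw [Functor.map_sum, Functor.map_sum, PBC.hom_sum_apply] at e
  rw [show T (fun i => Hlin (equi_map (biproduct.π F i)) q x) =
    ∑ i, Hlin (equi_map (biproduct.ι F i)) q (Hlin (equi_map (biproduct.π F i)) q x) by simp [T]]
  refine Eq.trans (Finset.sum_congr rfl fun i _ => ?_) e
  rw [Functor.map_comp]
  exact (HF_map_comp _ _ q x).symm

theorem psi_additive {U : Scheme.{u}} (f : U ⟶ X) [Etale f] [EtShriek.JCont f] : (psi Λ f).Additive := by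
  haveI : ((sheafSections U.smallEtaleTopology (ModuleCat.{u + 1} (R.{u} Λ))).obj (op (EtCoh.top U))).Additive := { }
  haveI : (constantSheaf U.smallEtaleTopology (ModuleCat.{u + 1} (R.{u} Λ))).Additive :=
    (constantSheafAdj U.smallEtaleTopology (ModuleCat.{u + 1} (R.{u} Λ)) (EtCore.topIsTerminal U)).left_adjoint_additive
  haveI : (EtSix.extZeroMod (R.{u} Λ) f).Additive := (EtSix.extZeroModAdj (R.{u} Λ) f).left_adjoint_additive
  infer_instance

variable (Λ) in
/-- The coefficient ring reduced modulo `n`. -/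
def Rn (n : ℕ) : ModuleCat.{u + 1} (R.{u} Λ) :=
  ModuleCat.of (R.{u} Λ) (R.{u} Λ ⧸ Ideal.span {(n : R.{u} Λ)})

instance (n : ℕ) : Module.Finite (R.{u} Λ) (Rn Λ n) :=
  inferInstanceAs (Module.Finite (R.{u} Λ) (R.{u} Λ ⧸ Ideal.span {(n : R.{u} Λ)}))

theorem nsmul_Rn (n : ℕ) (x : Rn.{u} Λ n) : n • x = 0 := by
  obtain ⟨r, rfl⟩ := Ideal.Quotient.mk_surjective (I := Ideal.span {(n : R.{u} Λ)}) x
  show n • Ideal.Quotient.mk (Ideal.span {(n : R.{u} Λ)}) r = 0
  rw [← map_nsmul, Ideal.Quotient.eq_zero_iff_mem, nsmul_eq_mul]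
  exact Ideal.mul_mem_right _ _ (Ideal.subset_span rfl)

theorem isFT_constMod {U : Scheme.{u}} (M : ModuleCat.{u + 1} (R.{u} Λ)) [Module.Finite (R.{u} Λ) M] :
    EtModW.IsFTLocConst (R.{u} Λ) ((constantSheaf U.smallEtaleTopology (ModuleCat.{u + 1} (R.{u} Λ))).obj M) :=
  ⟨PUnit, fun _ => EtCoh.top U, fun x => ⟨PUnit.unit, x, rfl⟩, fun _ => ⟨M, inferInstance, inferInstance,
    inferInstance, ⟨L28.LocConst.constCompat (J := U.smallEtaleTopology.over (EtCoh.top U))
      (K := U.smallEtaleTopology) (Over.forget (EtCoh.top U)) _⟩⟩⟩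

/-- A map from an extension by zero of the constant sheaf to a killed sheaf factors through the reduction. -/
theorem exists_factor_psi {U : Scheme.{u}} (f : U ⟶ X) [Etale f] [EtShriek.JCont f] {n : ℕ}
    {G : EtModW.Mod (R.{u} Λ) X} (hG : n • 𝟙 G = 0)
    (φ : (psi Λ f).obj (ModuleCat.of (R.{u} Λ) (R.{u} Λ)) ⟶ G) :
    ∃ (π : ModuleCat.of (R.{u} Λ) (R.{u} Λ) ⟶ Rn Λ n) (ψ : (psi Λ f).obj (Rn Λ n) ⟶ G), (psi Λ f).map π ≫ ψ = φ := by
  let adj := (constantSheafAdj U.smallEtaleTopology (ModuleCat.{u + 1} (R.{u} Λ)) (EtCore.topIsTerminal U)).comp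
    (EtSix.extZeroModAdj (R.{u} Λ) f)
  let s := adj.homEquiv _ _ φ
  let π : ModuleCat.of (R.{u} Λ) (R.{u} Λ) ⟶ Rn Λ n :=
    ModuleCat.ofHom (Submodule.mkQ (Ideal.span {(n : R.{u} Λ)}))
  have hle : Ideal.span {(n : R.{u} Λ)} ≤ LinearMap.ker s.hom := by
    rw [Ideal.span_le, Set.singleton_subset_iff]
    show s.hom (n : R.{u} Λ) = 0
    rw [show (n : R.{u} Λ) = n • (1 : R.{u} Λ) from (nsmul_one n).symm, map_nsmul]
    exact nsmul_section_eq_zero hG _ _
  refine ⟨π, (adj.homEquiv _ _).symm (ModuleCat.ofHom (Submodule.liftQ _ s.hom hle)), ?_⟩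
  refine ((adj.homEquiv_naturality_left_symm π _).symm).trans ((adj.homEquiv _ _).symm_apply_eq.2 ?_)
  rfl

variable [IsNoetherianRing Λ] [AlgebraicGeometry.IsNoetherian X]

/-- Finite generation for constructible sheaves of modules killed by `n`. -/
theorem fin_of_killed (n : ℕ) (hn : 0 < n) (N : ℕ)
    (hvan : ∀ (F : EtCoh.Ab X), n • 𝟙 F = 0 → ∀ q, N ≤ q → Subsingleton (EtCoh.H X F q))
    (hab : ∀ (F : EtCoh.Ab X), EtPBC.IsConstructible F → n • 𝟙 F = 0 → ∀ q, Finite (EtCoh.H X F q))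
    (G : EtModW.Mod (R.{u} Λ) X) (hG : EtModW.IsConstructible (R.{u} Λ) G) (hkill : n • 𝟙 G = 0) (q : ℕ) :
    Fin G q := by
  haveI : IsNoetherianRing (R.{u} Λ) := isNoetherianRing_of_ringEquiv Λ (ULift.ringEquiv (R := Λ)).symm
  suffices key : ∀ (k q : ℕ), N ≤ q + k → ∀ G : EtModW.Mod (R.{u} Λ) X,
      EtModW.IsConstructible (R.{u} Λ) G → n • 𝟙 G = 0 → Fin G q from key N q (Nat.le_add_left N q) G hG hkill
  intro k
  induction k with
  | zero =>
    intro q hq G _ hk
    refine finite_of_subsingleton q (hvan _ ?_ q hq)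
    show n • 𝟙 ((EtModD.forgetToAb (R.{u} Λ) X).obj G) = 0
    rw [← CategoryTheory.Functor.map_id, ← Functor.map_nsmul, hk, Functor.map_zero]
  | succ k ih =>
    intro q hq G hG hk
    obtain ⟨m, U, hU, φ, hφ⟩ := exists_epi_lift (𝟙 G) hG
    rw [Category.comp_id] at hφ
    haveI := hφ
    haveI : ∀ i, IsAffine (U i).left := hU
    haveI hEt : ∀ i, AlgebraicGeometry.Etale (X := (U i).left) (Y := X) (U i).hom := fun i => (U i).prop
    let A : _root_.Fin m → EtModW.Mod (R.{u} Λ) X := fun i =>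
      (psi Λ (U := (U i).left) (X := X) (U i).hom).obj (Rn Λ n)
    choose π ψ hπψ using fun i =>
      exists_factor_psi (U := (U i).left) (X := X) (U i).hom hk (biproduct.ι (fun i => sh (R.{u} Λ) (U i)) i ≫ φ)
    let Ψ : ⨁ A ⟶ G := biproduct.desc ψ
    haveI : Epi Ψ := by
      haveI : Epi φ := hφ
      have e : biproduct.map (fun i => (psi Λ (U := (U i).left) (X := X) (U i).hom).map (π i)) ≫ Ψ = φ :=
        biproduct.hom_ext' _ _ fun i => by
          rw [biproduct.ι_map_assoc, biproduct.ι_desc]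
          exact hπψ i
      exact @epi_of_epi_fac _ _ _ _ _ _ _ _ hφ e
    have hA : ∀ i, n • 𝟙 (A i) = 0 := fun i => by
      haveI := psi_additive (Λ := Λ) (U := (U i).left) (X := X) (U i).hom
      show n • 𝟙 ((psi Λ (U := (U i).left) (X := X) (U i).hom).obj (Rn Λ n)) = 0
      rw [← CategoryTheory.Functor.map_id, ← Functor.map_nsmul,
        show n • 𝟙 (Rn.{u} Λ n) = 0 from ModuleCat.hom_ext (LinearMap.ext fun x => nsmul_Rn n x), Functor.map_zero]
    have hB : n • 𝟙 (⨁ A) = 0 := biproduct.hom_ext' _ _ fun i => by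
      rw [comp_zero, Preadditive.comp_nsmul, Category.comp_id]
      calc n • biproduct.ι A i = n • (𝟙 (A i) ≫ biproduct.ι A i) := by rw [Category.id_comp]
        _ = (n • 𝟙 (A i)) ≫ biproduct.ι A i := (Preadditive.nsmul_comp _ _ _).symm
        _ = 0 := by rw [hA i, zero_comp]
    have hBc : EtModW.IsConstructible (R.{u} Λ) (⨁ A) := isConstructible_biproduct _ fun i =>
      isConstructible_extZero_of_isFT (U := (U i).left) (X := X) (U i).hom _ (isFT_constMod (Rn Λ n))
    let S : ShortComplex (EtModW.Mod (R.{u} Λ) X) := ShortComplex.mk (kernel.ι Ψ) Ψ (kernel.condition _)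
    have hS : S.ShortExact := { exact := ShortComplex.exact_kernel Ψ }
    refine Fin.right hS (fin_biproduct A q fun i => fin_psi (U := (U i).left) (X := X) (U i).hom (Rn Λ n) n hn
      (nsmul_Rn n) q fun d hd => ?_) (ih (q + 1) (by omega) (kernel Ψ)
        (L28.Strata.isConstructibleMod_kernel_cokernel Ψ hBc hG).1 (nsmul_id_kernel Ψ hB))
    haveI : NeZero d := ⟨fun h => hn.ne' (Nat.eq_zero_of_zero_dvd (h ▸ hd))⟩
    refine hab ((phi (U := (U i).left) (X := X) (U i).hom).obj (AddCommGrpCat.of (ULift.{u + 1} (ZMod d))))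
      (L28.ExtShriek.isConstructible_extZero (U := (U i).left) (X := X) (U i).hom _
      (L28.ExtShriek.isFLC_const (U i).left (ZMod d))) ?_ q
    haveI := phi_additive (U := (U i).left) (X := X) (U i).hom
    rw [← CategoryTheory.Functor.map_id, ← Functor.map_nsmul]
    refine (congrArg (phi (U := (U i).left) (X := X) (U i).hom).map ?_).trans ((phi (U := (U i).left) (X := X) (U i).hom).map_zero _ _)
    obtain ⟨c, rfl⟩ := hd
    refine ConcreteCategory.hom_ext _ _ fun x => ULift.ext _ _ ?_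
    show (d * c) • x.down = 0
    simp

end Groth.L27.LamFin

end
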