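import Groth.Agent.L27.LamFin.Bridge

/-! # Torsion constructible sheaves of modules are killed by an integer -/

set_option autoImplicit false
set_option linter.style.haveILetI false
set_option linter.unusedSectionVars false
set_option backward.isDefEq.respectTransparency.types false

universe u

open CategoryTheory CategoryTheory.Limits AlgebraicGeometry Opposite

noncomputable section

namespace Groth.L27.LamFin

open Groth.L28.ExtShriekMod

attribute [local instance] Abelian.hasFiniteBiproducts Groth.L27.ExtZero.jCont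

variable {X : Scheme.{u}}

/-- A locally torsion section over a quasi-compact object is killed by a good integer. -/
theorem exists_nsmul_eq_zero (P : Submonoid ℕ) (F : EtCoh.Ab X) (U : X.Etale) [CompactSpace U.left]
    (s : F.obj.obj (op U))
    (h : ∀ x : U.left, ∃ (V : X.Etale) (g : V ⟶ U) (n : ℕ), (∃ v : V.left, g.left.base v = x) ∧ n ∈ P ∧
      n • F.obj.map g.op s = 0) : ∃ n ∈ P, n • s = 0 := by
  choose V g n hv hn h0 using h
  obtain ⟨t, ht⟩ := isCompact_univ.elim_finite_subcover (fun x => Set.range (g x).left)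
    (fun x => (g x).left.isOpenMap.isOpen_range) fun x _ => Set.mem_iUnion.2 ⟨x, hv x⟩
  refine ⟨∏ x ∈ t, n x, Submonoid.prod_mem P fun x _ => hn x, ?_⟩
  refine Groth.L27.EtSite.ext_of_locally F fun y => ?_
  obtain ⟨x, hx, v, hv'⟩ := Set.mem_iUnion₂.1 (ht (Set.mem_univ y))
  refine ⟨V x, g x, v, hv', ?_⟩
  obtain ⟨c, hc⟩ := Finset.dvd_prod_of_mem n hx
  have h1 : (∏ x ∈ t, n x) • F.obj.map (g x).op s = 0 := by
    rw [hc, mul_comm, mul_nsmul', h0 x, nsmul_zero]
  exact (map_nsmul (F.obj.map (g x).op).hom _ s).trans (h1.trans (map_zero (F.obj.map (g x).op).hom).symm)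

variable {Λ : Type} [CommRing Λ] [IsNoetherianRing Λ] [CompactSpace X] [QuasiSeparatedSpace X]

/-- Torsion constructible sheaves of modules are killed by a good integer. -/
theorem exists_nsmul_id_eq_zero (P : Submonoid ℕ) {G : EtModW.Mod (R.{u} Λ) X}
    (hG : EtModW.IsConstructible (R.{u} Λ) G)
    (h : ∀ (U : X.Etale) (s : G.obj.obj (op U)) (x : U.left), ∃ (V : X.Etale) (g : V ⟶ U) (n : ℕ),
      (∃ v : V.left, g.left.base v = x) ∧ n ∈ P ∧ n • G.obj.map g.op s = 0) :
    ∃ n ∈ P, n • 𝟙 G = 0 := by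
  haveI : IsNoetherianRing (R.{u} Λ) := isNoetherianRing_of_ringEquiv Λ (ULift.ringEquiv (R := Λ)).symm
  obtain ⟨m, U, hU, φ, hφ⟩ := exists_epi_lift (𝟙 G) hG
  rw [Category.comp_id] at hφ
  haveI : ∀ i, IsAffine (U i).left := hU
  haveI hEt : ∀ i, AlgebraicGeometry.Etale (X := (U i).left) (Y := X) (U i).hom := fun i => (U i).prop
  let adj := fun i => (constantSheafAdj (U i).left.smallEtaleTopology (ModuleCat.{u + 1} (R.{u} Λ))
    (EtCore.topIsTerminal (U i).left)).comp
      (EtSix.extZeroModAdj (R.{u} Λ) (U := (U i).left) (X := X) (U i).hom)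
  let W := fun i => (EtShriek.compEtale (U := (U i).left) (X := X) (U i).hom).obj (EtCoh.top (U i).left)
  let φi := fun i => biproduct.ι (fun i => sh (R.{u} Λ) (U i)) i ≫ φ
  let s : ∀ i, G.obj.obj (op (W i)) := fun i => (adj i).homEquiv _ _ (φi i) (1 : R.{u} Λ)
  have hs : ∀ i, ∃ n ∈ P, n • s i = 0 := fun i => by
    haveI : CompactSpace (W i).left := inferInstanceAs (CompactSpace (U i).left)
    exact exists_nsmul_eq_zero P ((EtModD.forgetToAb (R.{u} Λ) X).obj G) (W i) (s i) (h _ _)
  choose n hn hs0 using hs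
  refine ⟨∏ i, n i, Submonoid.prod_mem P fun i _ => hn i, ?_⟩
  rw [← cancel_epi φ, comp_zero, Preadditive.comp_nsmul, Category.comp_id]
  refine biproduct.hom_ext' _ _ fun i => ?_
  rw [Preadditive.comp_nsmul, comp_zero]
  show (∏ j, n j) • φi i = 0
  obtain ⟨c, hc⟩ := Finset.dvd_prod_of_mem n (Finset.mem_univ i)
  rw [hc, mul_comm, mul_nsmul']
  refine (congrArg (c • ·) ?_).trans (nsmul_zero c)
  haveI := psi_additive (Λ := Λ) (U := (U i).left) (X := X) (U i).hom
  apply ((adj i).homEquiv (ModuleCat.of (R.{u} Λ) (R.{u} Λ)) G).injective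
  rw [Adjunction.homEquiv_unit, Adjunction.homEquiv_unit]
  refine ModuleCat.hom_ext (LinearMap.ext_ring ?_)
  let ev : ((psi Λ (U := (U i).left) (X := X) (U i).hom).obj (ModuleCat.of (R.{u} Λ) (R.{u} Λ)) ⟶ G) →+
      G.obj.obj (op (W i)) :=
    { toFun := fun m => m.hom.app (op (W i)) ((adj i).unit.app (ModuleCat.of (R.{u} Λ) (R.{u} Λ)) (1 : R.{u} Λ))
      map_zero' := rfl
      map_add' := fun _ _ => rfl }
  have hev : ev (φi i) = s i :=
    (congrArg (fun m : ModuleCat.of (R.{u} Λ) (R.{u} Λ) ⟶ G.obj.obj (op (W i)) => m (1 : R.{u} Λ))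
      ((adj i).homEquiv_unit (f := φi i))).symm
  exact (map_nsmul ev (n i) (φi i)).trans (((congrArg (n i • ·) hev).trans (hs0 i)).trans ev.map_zero.symm)

end Groth.L27.LamFin

end
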